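import Groth.Agent.BoundaryConn.Compactify
import Groth.Agent.FinBirLib.Smooth
import Groth.Agent.CurveFin.Const
import Groth.Agent.DimLiftLib.Basic

/-!
# Smooth completions of integral affine curves over algebraically closed fields
-/

set_option autoImplicit false
set_option backward.isDefEq.respectTransparency false
set_option backward.isDefEq.respectTransparency.types false
set_option linter.style.haveILetI false
set_option maxHeartbeats 1000000

universe u

open CategoryTheory CategoryTheory.Limits AlgebraicGeometry TopologicalSpace Opposite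

noncomputable section

namespace Groth.Agent.AffCurveLib

/-- A local homomorphism of local rings which is surjective gives an isomorphism of residue fields. -/
theorem isIso_residueFieldMap_of_surjective {X Y : Scheme.{u}} (f : X ⟶ Y) (x : X)
    (h : Function.Surjective (f.stalkMap x)) : IsIso (f.residueFieldMap x) := by
  refine (ConcreteCategory.isIso_iff_bijective _).2 ⟨RingHom.injective _, fun a => ?_⟩
  obtain ⟨b, rfl⟩ := X.residue_surjective x a
  obtain ⟨c, rfl⟩ := h b
  exact ⟨Y.residue (f x) c, congr($(Scheme.residue_residueFieldMap f x) c)⟩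

/-- An integral affine curve over an algebraically closed field is finitely birationally covered by the
complement of a nonempty finite set of points in a smooth proper curve. -/
theorem exists_completion (k : Type u) [Field k] [IsAlgClosed k] {T : Scheme.{u}} [IsIntegral T] [IsAffine T]
    (pT : T ⟶ Spec (CommRingCat.of k)) [LocallyOfFiniteType pT] (hdim : topologicalKrullDim T = 1) :
    ∃ (M : Scheme.{u}) (pM : M ⟶ Spec (CommRingCat.of k)) (W : M.Opens) (a : W.toScheme ⟶ T)
      (_ : IsIntegral W.toScheme),
      IsProper pM ∧ Smooth pM ∧ IsIntegral M ∧ topologicalKrullDim M = 1 ∧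
        ((W : Set M)ᶜ).Finite ∧ ((W : Set M)ᶜ).Nonempty ∧ IsFinite a ∧ a ≫ pT = W.ι ≫ pM ∧
          a (genericPoint W.toScheme) = genericPoint T ∧ IsIso (a.residueFieldMap (genericPoint W.toScheme)) := by
  classical
  obtain ⟨n, c, hc, hcp⟩ := ProperFin.exists_chartEmb pT (isAffineOpen_top T)
  let c' := T.topIso.inv ≫ c
  let j : T ⟶ CohB1.ProjSpace n k := c' ≫ ProjMap.chart 0
  haveI : IsClosedImmersion c' := inferInstance
  haveI : QuasiCompact (j ≫ CohB1.ProjSpace.toSpec n k) :=
    (HasAffineProperty.iff_of_isAffine (P := @QuasiCompact)).2 inferInstance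
  haveI : QuasiCompact j := QuasiCompact.of_comp j (CohB1.ProjSpace.toSpec n k)
  haveI : IsImmersion j := inferInstance
  haveI : IsIntegral j.image := ProperFin.isIntegral_image j
  let Z := j.image
  let qZ : Z ⟶ Spec (CommRingCat.of k) := j.imageι ≫ CohB1.ProjSpace.toSpec n k
  let V := j.toImage.opensRange
  let g := Z.fromSpecStalk (genericPoint Z)
  haveI : QuasiCompact (g ≫ qZ) :=
    (HasAffineProperty.iff_of_isAffine (P := @QuasiCompact)).2 inferInstance
  haveI : QuasiCompact g := QuasiCompact.of_comp g qZ
  haveI : QuasiSeparated g := inferInstance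
  have hg : g = Spec.map (CommRingCat.ofHom (RingHom.id Z.functionField)) ≫ Z.fromSpecStalk (genericPoint Z) := by
    rw [show CommRingCat.ofHom (RingHom.id Z.functionField) = 𝟙 _ from rfl, Spec.map_id]
    exact (Category.id_comp _).symm
  have hfin : (RingHom.id Z.functionField).Finite := RingHom.Finite.id _
  haveI := FinIntClosure.isFinite_fromNormalization (RingHom.id Z.functionField) g hg k qZ hfin
  let N := g.normalization
  let ν : N ⟶ Z := g.fromNormalization
  let pN : N ⟶ Spec (CommRingCat.of k) := ν ≫ qZ
  haveI : IsProper pN := inferInstance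
  -- birationality
  have hηV : genericPoint Z ∈ V :=
    (genericPoint_spec Z).mem_open_set_iff V.isOpen |>.2
      ⟨j.toImage (Classical.arbitrary T), trivial, ⟨Classical.arbitrary T, rfl⟩⟩
  have hν : ν (genericPoint N) = genericPoint Z := NormalSch.fromNormalization_generic _ g hg
  have hνsurj : Function.Surjective (ν.stalkMap (genericPoint N)) := by
    have hs : ∀ h : Spec (CommRingCat.of Z.functionField) ⟶ Z, h = Z.fromSpecStalk (genericPoint Z) →
        Function.Surjective (Scheme.stalkClosedPointTo h) := by
      rintro _ rfl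
      refine ((ConcreteCategory.isIso_iff_bijective (Scheme.stalkClosedPointTo
        (Z.fromSpecStalk (genericPoint Z)))).1 ?_).2
      rw [Scheme.stalkClosedPointTo_fromSpecStalk]
      infer_instance
    have hp : ∀ p, p = genericPoint N → Function.Surjective (ν.stalkMap p) →
        Function.Surjective (ν.stalkMap (genericPoint N)) := by
      rintro _ rfl h; exact h
    refine hp _ (NormalSch.generic_normalization g) fun y => ?_
    obtain ⟨w, hw⟩ := hs (g.toNormalization ≫ ν) g.toNormalization_fromNormalization
      (Scheme.stalkClosedPointTo g.toNormalization y)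
    rw [Scheme.stalkClosedPointTo_comp, ConcreteCategory.comp_apply] at hw
    exact ⟨w, NormalSch.injective_stalkClosedPointTo g hw⟩
  -- the open part
  let W : N.Opens := ν ⁻¹ᵁ V
  have hηW : genericPoint N ∈ W := by
    show ν (genericPoint N) ∈ V
    rw [hν]; exact hηV
  haveI : Nonempty W.toScheme := ⟨⟨_, hηW⟩⟩
  haveI : IsIntegral W.toScheme := isIntegral_of_isOpenImmersion W.ι
  let a : W.toScheme ⟶ T := (ν ∣_ V) ≫ j.toImage.isoOpensRange.inv
  haveI : IsFinite a := inferInstance
  have hap : a ≫ pT = W.ι ≫ pN := by
    have e1 : j ≫ CohB1.ProjSpace.toSpec n k = pT := by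
      simp only [j, c', Category.assoc, hcp]
      rw [← Category.assoc]
      exact (congrArg (· ≫ pT) (Scheme.topIso T).inv_hom_id).trans (Category.id_comp _)
    have e2 : pT = j.toImage ≫ qZ := by simp only [qZ, ← e1, j.toImage_imageι_assoc]
    simp only [a, pN, W, Category.assoc]
    rw [e2, Scheme.Hom.isoOpensRange_inv_comp_assoc, morphismRestrict_ι_assoc]
  have hgW : W.ι (genericPoint W.toScheme) = genericPoint N := genericPoint_eq_of_isOpenImmersion W.ι
  have haT : a (genericPoint W.toScheme) = genericPoint T := by
    apply j.toImage.isOpenEmbedding.injective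
    rw [genericPoint_eq_of_isOpenImmersion j.toImage, ← Scheme.Hom.comp_apply]
    have : a ≫ j.toImage = W.ι ≫ ν := by
      simp only [a, W, Category.assoc, Scheme.Hom.isoOpensRange_inv_comp]
      exact morphismRestrict_ι ν V
    rw [this, Scheme.Hom.comp_apply, hgW, hν]
  have hares : IsIso (a.residueFieldMap (genericPoint W.toScheme)) := by
    refine isIso_residueFieldMap_of_surjective a _ ?_
    have hWs : Function.Surjective ((W.ι ≫ ν).stalkMap (genericPoint W.toScheme)) := by
      rw [Scheme.Hom.stalkMap_comp]
      refine ((ConcreteCategory.isIso_iff_bijective (W.ι.stalkMap _)).1 inferInstance).2.comp ?_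
      have h0 : ∀ p, p = genericPoint N → Function.Surjective (ν.stalkMap p) := by
        rintro _ rfl; exact hνsurj
      exact h0 _ hgW
    have e : a ≫ j.toImage = W.ι ≫ ν := by
      simp only [a, W, Category.assoc, Scheme.Hom.isoOpensRange_inv_comp]
      exact morphismRestrict_ι ν V
    intro y
    obtain ⟨x, hx⟩ := hWs y
    rw [Scheme.Hom.stalkMap_congr_hom _ _ e.symm (genericPoint W.toScheme), Scheme.Hom.stalkMap_comp,
      ConcreteCategory.comp_apply, ConcreteCategory.comp_apply] at hx
    exact ⟨_, hx⟩
  -- dimensions
  have hnorm : Pi1.IsNormalScheme N := NormalSch.isNormalScheme_normalization _ g hg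
  haveI : Surjective a := ⟨fun t => ((genericPoint_spec T).specializes trivial).mem_closed
    a.isClosedMap.isClosed_range ⟨_, haT⟩⟩
  have hdW : topologicalKrullDim W.toScheme = 1 :=
    le_antisymm ((DimLiftLib.le_of_isIntegralHom a).trans hdim.le)
      (hdim.symm.trans_le (BoundaryConn.dim_le_of_surjective a))
  have hdN : topologicalKrullDim N = 1 :=
    (DimFormulaLib.topologicalKrullDim_opens pN W ⟨_, hηW⟩).symm.trans hdW
  haveI : IsLocallyNoetherian N := LocallyOfFiniteType.isLocallyNoetherian pN
  haveI : CompactSpace N := QuasiCompact.compactSpace_of_compactSpace pN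
  haveI : IsNoetherian N := {}
  have hsm : Smooth pN := FinBirLib.smooth_of_regular_algClosed pN fun x _ => by
    obtain ⟨h1, h2⟩ := hnorm x
    haveI := h1
    haveI := h2
    haveI : Ring.KrullDimLE 1 (N.presheaf.stalk x) := by
      rw [Ring.krullDimLE_iff, ringKrullDim_stalk_eq_coheight x]
      refine (Order.coheight_le_krullDim x).trans ?_
      rw [← DimLiftLib.topologicalKrullDim_eq, hdN]
      rfl
    exact FinBirLib.isRegularLocalRing_of_normal_dimLE_one _
  refine ⟨N, pN, W, a, inferInstance, inferInstance, hsm, inferInstance, hdN,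
    CurveFin.finite_compl_open hdN.le W ⟨_, hηW⟩, ?_, inferInstance, hap, haT, hares⟩
  rw [Set.nonempty_compl]
  intro hW
  haveI : IsAffineHom a := inferInstance
  haveI : IsAffine W.toScheme := isAffine_of_isAffineHom a
  have hWtop : W = ⊤ := TopologicalSpace.Opens.ext hW
  haveI : IsIso W.ι := by
    rw [hWtop]
    exact inferInstanceAs (IsIso N.topIso.hom)
  haveI : IsAffine N := IsAffine.of_isIso (inv W.ι)
  haveI : IsFinite pN := IsFinite.iff_isProper_and_isAffineHom.2 ⟨inferInstance, inferInstance⟩
  have h0 : topologicalKrullDim N ≤ 0 :=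
    (DimLiftLib.le_of_isIntegralHom pN).trans
      ((PrimeSpectrum.topologicalKrullDim_eq_ringKrullDim k).trans (ringKrullDim_eq_zero_of_field k)).le
  rw [hdN] at h0
  exact absurd h0 (by decide)

end Groth.Agent.AffCurveLib
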