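import Groth.Agent.AffCurveLib.Vanish
import Groth.Agent.CdFieldLib.StalkField
import Groth.Agent.GeomIrred.ClopenDescend

/-!
# Affine curves over arbitrary fields
-/

set_option autoImplicit false
set_option backward.isDefEq.respectTransparency false
set_option backward.isDefEq.respectTransparency.types false
set_option linter.style.haveILetI false
set_option maxHeartbeats 1000000

universe u

open CategoryTheory CategoryTheory.Limits AlgebraicGeometry TopologicalSpace Opposite

noncomputable section

namespace Groth.Agent.AffCurveLib

attribute [local instance] Groth.Agent.S0101.result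

/-- Affine curves over separably closed fields have cohomological dimension at most one. -/
theorem cohDimLE_one_sepClosed {R : Type u} [Field R] [IsSepClosed R] {X : Scheme.{u}} [IsAffine X]
    (f : X ⟶ Spec (CommRingCat.of R)) [LocallyOfFiniteType f] (hdim : topologicalKrullDim X ≤ 1) :
    EtCoh.CohDimLE X 1 := by
  let Ω := AlgebraicClosure R
  let g := Spec.map (CommRingCat.ofHom (algebraMap R Ω))
  haveI : UniversallyInjective g := GeomIrred.universallyInjective_specMap R Ω
  haveI : IsIntegralHom g := IsIntegralHom.SpecMap_iff.2
    ((algebraMap_isIntegral_iff (R := R) (A := Ω)).2 inferInstance)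
  haveI : Surjective g := inferInstance
  haveI : IsIntegralHom (pullback.fst f g) := inferInstance
  haveI : UniversallyInjective (pullback.fst f g) :=
    MorphismProperty.pullback_fst (P := @UniversallyInjective) f g inferInstance
  haveI : Surjective (pullback.fst f g) := inferInstance
  haveI : IsAffine (pullback f g) := isAffine_of_isAffineHom (pullback.fst f g)
  have h := cohDimLE_one (pullback.snd f g) ((DimLiftLib.le_of_isIntegralHom (pullback.fst f g)).trans hdim)
  exact CdFieldLib.cdLE_univ_iff.1
    (CdFieldLib.cdLE_of_universalHomeomorph (pullback.fst f g) (CdFieldLib.cdLE_univ_iff.2 h))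

/-- Affine curves over a field. -/
theorem cohDimLE_field {K : Type u} [Field K] {X : Scheme.{u}} [IsAffine X] (f : X ⟶ Spec (CommRingCat.of K))
    [LocallyOfFiniteType f] (hdim : topologicalKrullDim X ≤ 1) {e : ℕ}
    (hK : EtCoh.CohDimLE (Spec (CommRingCat.of K)) e) : EtCoh.CohDimLE X (1 + e) := by
  refine CdFieldLib.cdLE_univ_iff.1 (CdFieldLib.cdLE_of_leray f (fun F hF q hq => ?_) (CdFieldLib.cdLE_univ_iff.2 hK))
  obtain ⟨R, _, _, _, _, hR⟩ := CdFieldLib.exists_sepClosed_stalk K
  let g := Spec.map (CommRingCat.ofHom (algebraMap K R))
  haveI : IsIntegralHom g := IsIntegralHom.SpecMap_iff.2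
    ((algebraMap_isIntegral_iff (R := K) (A := R)).2 inferInstance)
  haveI : IsIntegralHom (pullback.fst f g) := inferInstance
  haveI : IsAffine (pullback f g) := isAffine_of_isAffineHom (pullback.fst f g)
  refine hR X f F q (cohDimLE_one_sepClosed (pullback.snd f g)
    ((DimLiftLib.le_of_isIntegralHom (pullback.fst f g)).trans hdim) _ ?_ q hq)
  exact RpushTorsLib.isTorsion_of_isLTorsion (AcycCompLib.isLTorsion_pull (pullback.fst f g) hF)

end Groth.Agent.AffCurveLib
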