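import Groth.Agent.CdpLib.Reduce
import Groth.Agent.CdFieldLib.Basic

/-!
# The cohomological dimension is the maximum over all primes
-/

set_option autoImplicit false
set_option backward.isDefEq.respectTransparency false
set_option backward.isDefEq.respectTransparency.types false
set_option linter.style.haveILetI false
set_option maxHeartbeats 800000

universe u

open CategoryTheory CategoryTheory.Limits AlgebraicGeometry Opposite CategoryTheory.Abelian

noncomputable section

namespace Groth.Agent.AffCurveLib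

variable {X : Scheme.{u}} {d : ℕ}

/-- Sheaves killed by a positive integer. -/
theorem subsingleton_H_killed (h : ∀ ℓ : ℕ, ℓ.Prime → Dix.CohDimLEAt X ℓ d) :
    ∀ (N : ℕ), 0 < N → ∀ F : EtCoh.Ab X, EtCoh.KilledBy N F → ∀ q : ℕ, d < q → Subsingleton (EtCoh.H X F q) := by
  intro N
  induction N using Nat.strong_induction_on with
  | _ N ih =>
    intro hN F hk q hq
    by_cases hN1 : N = 1
    · subst hN1
      rw [FLCLib.killedBy_iff, one_nsmul] at hk
      exact CdpLib.subsingleton_H_of_isZero ((IsZero.iff_id_eq_zero F).2 hk) q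
    obtain ⟨p, hp, M, rfl⟩ : ∃ p, p.Prime ∧ ∃ M, N = p * M := by
      obtain ⟨p, hp, hd⟩ := Nat.exists_prime_and_dvd hN1
      exact ⟨p, hp, hd⟩
    let φ : F ⟶ F := p • 𝟙 F
    let S : ShortComplex (EtCoh.Ab X) :=
      ShortComplex.mk (kernel.ι (cokernel.π φ)) (cokernel.π φ) (kernel.condition _)
    have hS : S.ShortExact := { exact := ShortComplex.exact_of_f_is_kernel S (kernelIsKernel _) }
    have hM : 0 < M := Nat.pos_of_mul_pos_left hN
    have hI : EtCoh.KilledBy M (kernel (cokernel.π φ)) := by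
      rw [FLCLib.killedBy_iff] at hk ⊢
      let e : F ⟶ kernel (cokernel.π φ) := Abelian.factorThruImage φ
      have he : e ≫ kernel.ι (cokernel.π φ) = φ := Abelian.image.fac φ
      haveI : Epi e := inferInstanceAs (Epi (Abelian.factorThruImage φ))
      rw [← cancel_epi e, comp_zero, Preadditive.comp_nsmul, Category.comp_id, ← cancel_mono (kernel.ι (cokernel.π φ)),
        zero_comp, Preadditive.nsmul_comp, he, smul_smul, mul_comm, hk]
    have hQ : EtCoh.KilledBy p (cokernel φ) := by
      rw [FLCLib.killedBy_iff, ← cancel_epi (cokernel.π φ), comp_zero, Preadditive.comp_nsmul, Category.comp_id,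
        ← Category.id_comp (cokernel.π φ), ← Preadditive.nsmul_comp]
      exact cokernel.condition φ
    exact CdpLib.shortExact_middle hS q
      (ih M (lt_mul_of_one_lt_left hM hp.one_lt) hM _ hI q hq)
      (h p hp _ (fun U s x => ⟨U, 𝟙 U, ⟨x, rfl⟩, 1, by
        rw [pow_one, ← map_nsmul, hQ U s, map_zero]⟩) q hq)

/-- All torsion sheaves. -/
theorem cohDimLE_of_primes [IsNoetherian X] (h : ∀ ℓ : ℕ, ℓ.Prime → Dix.CohDimLEAt X ℓ d) : EtCoh.CohDimLE X d := by
  intro F hF q hq
  obtain ⟨J, _, _, D, c, hc, hD, ⟨e⟩⟩ := S0134.result X F hF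
  haveI := CohColim.preserves_HF (X := X) q J
  refine subsingleton_of_forall_eq 0 fun x => ?_
  obtain ⟨i, z, hz⟩ := Concrete.isColimit_exists_rep _ (isColimitOfPreserves (EtCoh.HF X q) hc)
    (x.comp (Ext.mk₀ e.inv) (add_zero q))
  let y : EtCoh.H X (D.obj i) q := z
  obtain ⟨N, hN, hkN⟩ := FLCLib.exists_killedBy (hD i)
  have hz' : y.comp (Ext.mk₀ (c.ι.app i)) (add_zero q) = x.comp (Ext.mk₀ e.inv) (add_zero q) := hz
  rw [(subsingleton_H_killed h N hN (D.obj i) hkN q hq).elim y 0, Ext.zero_comp] at hz'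
  calc x = (x.comp (Ext.mk₀ e.inv) (add_zero q)).comp (Ext.mk₀ e.hom) (add_zero q) := by
        rw [Ext.comp_assoc_of_second_deg_zero, Ext.mk₀_comp_mk₀, Iso.inv_hom_id, Ext.comp_mk₀_id]
    _ = 0 := by rw [← hz', Ext.zero_comp]

end Groth.Agent.AffCurveLib
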