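import Groth.Agent.AffCurveLib.Completion
import Groth.Agent.AffCurveLib.Primes
import Groth.Agent.EtClosedPts.Vanish
import Groth.Agent.CurveH12.OpenH2
import Groth.Agent.CdpLib.TopVanish
import Groth.Agent.KPi1Lib.Vanish

/-!
# Affine curves over algebraically closed fields have cohomological dimension one
-/

set_option autoImplicit false
set_option backward.isDefEq.respectTransparency false
set_option backward.isDefEq.respectTransparency.types false
set_option linter.style.haveILetI false
set_option maxHeartbeats 1000000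
set_option synthInstance.maxHeartbeats 400000

universe u

open CategoryTheory CategoryTheory.Limits AlgebraicGeometry TopologicalSpace Opposite CategoryTheory.Abelian

noncomputable section

namespace Groth.Agent.AffCurveLib

open EtClosedPts EtPtsLib

attribute [local instance] Groth.Agent.S0101.result

variable {k : Type u} [Field k] [IsAlgClosed k] {n : ℕ}

/-- No cohomology in degrees at least two for an open part of a smooth proper curve. -/
theorem subsingleton_H_open {M : Scheme.{u}} (pM : M ⟶ Spec (CommRingCat.of k)) [IsProper pM] [Smooth pM]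
    [IsIntegral M] (hdim : topologicalKrullDim M = 1) (W : M.Opens) (hWf : ((W : Set M)ᶜ).Finite)
    (hWn : ((W : Set M)ᶜ).Nonempty) (hn : 1 ≤ n) (hnk : (n : k) ≠ 0) (q : ℕ) (hq : 2 ≤ q) :
    Subsingleton (EtCoh.H W.toScheme (EtCoh.const W.toScheme (ZMod n)) q) := by
  letI : M.Over (Spec (CommRingCat.of k)) := ⟨pM⟩
  haveI : IsProper (M ↘ Spec (CommRingCat.of k)) := ‹IsProper pM›
  haveI : Smooth (M ↘ Spec (CommRingCat.of k)) := ‹Smooth pM›
  haveI := hWf.to_subtype
  haveI := hWn.to_subtype
  obtain ⟨-, h⟩ := CurveH12.H0_and_Hge2_mu_open (k := k) M hdim W (Nat.card ↥((W : Set M)ᶜ)) Nat.card_pos hWf rfl n hn hnk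
  obtain ⟨e⟩ := CurveH12.nonempty_mu_iso_const (k := k) (W.ι ≫ pM) hn hnk
  exact EtClosedPts.subsingleton_H_of_iso e.symm q (h q hq)

/-- The generic point of an integral affine curve. -/
theorem subsingleton_H_generic {T : Scheme.{u}} [IsIntegral T] [IsAffine T] (pT : T ⟶ Spec (CommRingCat.of k))
    [LocallyOfFiniteType pT] (hdim : topologicalKrullDim T = 1) (hn : 1 ≤ n) (hnk : (n : k) ≠ 0) (q : ℕ) (hq : 2 ≤ q) :
    Subsingleton (EtCoh.H T ((EtCoh.push (T.fromSpecResidueField (genericPoint T))).obj
      (EtCoh.const (Spec (T.residueField (genericPoint T))) (ZMod n))) q) := by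
  obtain ⟨M, pM, W, a, hWint, hp, hsm, hM, hdM, hWf, hWn, ha, hap, haη, hres⟩ := exists_completion k pT hdim
  haveI := hp
  haveI := hsm
  haveI := hM
  haveI := hWint
  haveI := ha
  haveI := hres
  haveI : LocallyOfFiniteType (W.ι ≫ pM) := inferInstance
  haveI : QuasiCompact (W.ι ≫ pM) := by rw [← hap]; infer_instance
  have hdW : topologicalKrullDim W.toScheme ≤ 1 :=
    (Topology.IsInducing.topologicalKrullDim_le W.ι.isOpenEmbedding.isInducing).trans hdM.le
  let η := genericPoint W.toScheme
  let φ := ptUnit η (EtCoh.const W.toScheme (ZMod n))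
  have hb := bijective_map_of_maximal (W.ι ≫ pM) hdW φ (fun Ω _ _ ξ hmax => by
    have hd : ξ default = η :=
      (hmax _ ⟨default, rfl⟩ η ((genericPoint_spec W.toScheme).specializes trivial)).symm
    exact isIso_stalk_ptUnit η ξ hd _) q (Or.inl (by omega))
  haveI := subsingleton_H_open pM hdM W hWf hWn hn hnk q hq
  have h1 : Subsingleton (EtCoh.H W.toScheme ((EtCoh.push (W.toScheme.fromSpecResidueField η)).obj
      (atPt η (EtCoh.const W.toScheme (ZMod n)))) q) := hb.2.subsingleton
  have h2 : Subsingleton (EtCoh.H W.toScheme ((EtCoh.push (W.toScheme.fromSpecResidueField η)).obj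
      (EtCoh.const (Spec (W.toScheme.residueField η)) (ZMod n))) q) :=
    EtClosedPts.subsingleton_H_of_iso ((EtCoh.push (W.toScheme.fromSpecResidueField η)).mapIso
      (EtCore.pullConst (W.toScheme.fromSpecResidueField η) (ZMod n)).symm) q h1
  obtain ⟨ε⟩ := EtVanish.nonempty_H_push_equiv a ((EtCoh.push (W.toScheme.fromSpecResidueField η)).obj
      (EtCoh.const (Spec (W.toScheme.residueField η)) (ZMod n))) q
  have h3 := @Equiv.subsingleton _ _ ε.toEquiv h2
  have key : ∀ t, a η = t → Subsingleton (EtCoh.H T ((EtCoh.push (T.fromSpecResidueField t)).obj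
      (EtCoh.const (Spec (T.residueField t)) (ZMod n))) q) := by
    rintro _ rfl
    obtain ⟨c⟩ := CdpLib.nonempty_push_const_iso (Spec.map (a.residueFieldMap η)) (ZMod n)
    refine EtClosedPts.subsingleton_H_of_iso ?_ q h3
    exact (EtCoh.push (T.fromSpecResidueField (a η))).mapIso c.symm ≪≫
      (EtCoh.pushComp (T.fromSpecResidueField (a η)) (Spec.map (a.residueFieldMap η))).app _ ≪≫
      (EtCoh.pushCongr (Scheme.Hom.SpecMap_residueFieldMap_fromSpecResidueField a η)).app _ ≪≫
      ((EtCoh.pushComp a (W.toScheme.fromSpecResidueField η)).app _).symm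
  exact key _ haη

variable {X : Scheme.{u}} [IsAffine X] (f : X ⟶ Spec (CommRingCat.of k)) [LocallyOfFiniteType f]

include f in
/-- A maximal point which is not closed. -/
theorem subsingleton_H_point (hdim : topologicalKrullDim X ≤ 1) (y : X) (hy : ¬ IsClosed ({y} : Set X))
    (hn : 1 ≤ n) (hnk : (n : k) ≠ 0) (q : ℕ) (hq : 2 ≤ q) :
    Subsingleton (EtCoh.H X ((EtCoh.push (X.fromSpecResidueField y)).obj
      (EtCoh.const (Spec (X.residueField y)) (ZMod n))) q) := by
  let I := Scheme.IdealSheafData.vanishingIdeal (⟨closure {y}, isClosed_closure⟩ : Closeds X)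
  let C := I.subscheme
  let i : C ⟶ X := I.subschemeι
  have hrange : Set.range i = closure {y} := by
    rw [Scheme.IdealSheafData.range_subschemeι, Scheme.IdealSheafData.coe_support_vanishingIdeal]
    rfl
  haveI : IsReduced C := DVRCrit.isReduced_vanishingIdeal _
  obtain ⟨c, hc⟩ : y ∈ Set.range i := hrange ▸ subset_closure rfl
  have huniv : closure ({c} : Set C) = Set.univ := by
    rw [i.isClosedEmbedding.isInducing.closure_eq_preimage_closure_image, Set.image_singleton, hc, ← hrange,
      Set.preimage_range]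
  haveI : IrreducibleSpace C :=
    (irreducibleSpace_def _).mpr (by rw [Set.top_eq_univ, ← huniv]; exact isIrreducible_singleton.closure)
  haveI : IsIntegral C := isIntegral_of_irreducibleSpace_of_isReduced _
  have hgen : genericPoint C = c := (genericPoint_spec C).eq (show IsGenericPoint c Set.univ from huniv)
  haveI : IsAffine C := isAffine_of_isAffineHom i
  haveI : LocallyOfFiniteType (i ≫ f) := inferInstance
  have hdC : topologicalKrullDim C = 1 := by
    refine le_antisymm ((Topology.IsInducing.topologicalKrullDim_le i.isClosedEmbedding.isInducing).trans hdim) ?_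
    rw [DimLiftLib.topologicalKrullDim_eq, Order.one_le_krullDim_iff]
    obtain ⟨z, hz, hzy⟩ : ∃ z, z ∈ closure ({y} : Set X) ∧ z ≠ y := by
      by_contra h
      exact hy (isClosed_of_closure_subset fun z hz => not_not.1 fun hne => h ⟨z, hz, hne⟩)
    rw [← hrange] at hz
    obtain ⟨w, rfl⟩ := hz
    refine ⟨w, c, lt_iff_le_not_ge.2 ⟨?_, fun hle => hzy ?_⟩⟩
    · exact Scheme.le_iff_specializes.2 (specializes_iff_mem_closure.2 (huniv ▸ Set.mem_univ w))
    · have h1 : i w ⤳ i c := (Scheme.le_iff_specializes.1 hle).map i.continuous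
      have h2 : i c ⤳ i w := (specializes_iff_mem_closure.2 (huniv ▸ Set.mem_univ w : w ∈ closure {c})).map i.continuous
      exact (h1.antisymm h2).eq.trans hc
  have h1 := subsingleton_H_generic (i ≫ f) hdC hn hnk q hq
  rw [hgen] at h1
  obtain ⟨ε⟩ := EtVanish.nonempty_H_push_equiv i ((EtCoh.push (C.fromSpecResidueField c)).obj
      (EtCoh.const (Spec (C.residueField c)) (ZMod n))) q
  have h3 := @Equiv.subsingleton _ _ ε.toEquiv h1
  have key : ∀ y', i c = y' → Subsingleton (EtCoh.H X ((EtCoh.push (X.fromSpecResidueField y')).obj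
      (EtCoh.const (Spec (X.residueField y')) (ZMod n))) q) := by
    rintro _ rfl
    haveI : IsIso (i.residueFieldMap c) := isIso_residueFieldMap_of_surjective i c (i.stalkMap_surjective c)
    obtain ⟨e⟩ := CdpLib.nonempty_push_const_iso (Spec.map (i.residueFieldMap c)) (ZMod n)
    refine EtClosedPts.subsingleton_H_of_iso ?_ q h3
    exact (EtCoh.push (X.fromSpecResidueField (i c))).mapIso e.symm ≪≫
      (EtCoh.pushComp (X.fromSpecResidueField (i c)) (Spec.map (i.residueFieldMap c))).app _ ≪≫
      (EtCoh.pushCongr (Scheme.Hom.SpecMap_residueFieldMap_fromSpecResidueField i c)).app _ ≪≫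
      ((EtCoh.pushComp i (C.fromSpecResidueField c)).app _).symm
  exact key y hc

include f in
/-- Extensions by zero of constants. -/
theorem subsingleton_H_extZero (hdim : topologicalKrullDim X ≤ 1) {V : Scheme.{u}} (j : V ⟶ X) [IsOpenImmersion j]
    [EtShriek.JCont j] (hn : 1 ≤ n) (hnk : (n : k) ≠ 0) (q : ℕ) (hq : 2 ≤ q) :
    Subsingleton (EtCoh.H X ((EtShriek.extZero j).obj (EtCoh.const V (ZMod n))) q) := by
  obtain ⟨T, hT⟩ := exists_finset_maximal f
  refine subsingleton_H_devissage f hdim 2 le_rfl T (fun y hy => (hT y).1 hy) _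
    (fun Ω _ _ ξ hmax hξ => absurd ((hT _).2 (hmax _ ⟨default, rfl⟩)) hξ) (fun y _ m hm => ?_) q hq
  by_cases hcl : IsClosed ({y} : Set X)
  · haveI := isSepClosed_residueField f y hcl
    obtain ⟨m, rfl⟩ : ∃ r, m = r + 1 := ⟨m - 1, by omega⟩
    exact subsingleton_of_forall_eq 0 fun e => EtTraceLib.H_push_eq_zero (k := (X.residueField y : Type u))
      (X.fromSpecResidueField y) (fieldAcyclic_of_sepClosed (X.residueField y) _) (m + 1)
      (H_eq_zero_of_sepClosed (X.residueField y) _ m) e
  let G := (EtShriek.extZero j).obj (EtCoh.const V (ZMod n))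
  by_cases hyV : y ∈ Set.range j
  · obtain ⟨v, rfl⟩ := hyV
    haveI : IsIso (j.residueFieldMap v) := isIso_residueFieldMap_of_surjective j v
      ((ConcreteCategory.isIso_iff_bijective (j.stalkMap v)).1 inferInstance).2
    let w : Spec (X.residueField (j v)) ⟶ V :=
      inv (Spec.map (j.residueFieldMap v)) ≫ V.fromSpecResidueField v
    have hw : w ≫ j = X.fromSpecResidueField (j v) := by
      simp only [w, Category.assoc, IsIso.inv_comp_eq]
      exact (Scheme.Hom.SpecMap_residueFieldMap_fromSpecResidueField j v).symm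
    haveI := isIso_unit_extZero j
    let e : atPt (j v) G ≅ EtCoh.const (Spec (X.residueField (j v))) (ZMod n) :=
      (EtCore.pullCongr hw.symm).app G ≪≫ (EtCore.pullComp w j).app G ≪≫
        (EtCoh.pull w).mapIso ((pullIsoRestr j).app G ≪≫
          (asIso ((EtShriek.extZeroAdj j).unit.app (EtCoh.const V (ZMod n)))).symm) ≪≫
        EtCore.pullConst w (ZMod n)
    exact EtClosedPts.subsingleton_H_of_iso ((EtCoh.push (X.fromSpecResidueField (j v))).mapIso e) m
      (subsingleton_H_point f hdim (j v) hcl hn hnk m hm)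
  · have hz : IsZero (atPt y G) := by
      refine (isZero_iff_ab _).2 fun Ω _ _ ζ => ?_
      refine IsZero.of_iso ?_ ((pullStalkIso (X.fromSpecResidueField y) ζ AddCommGrpCat.{u + 1}).app G)
      refine isZero_stalk_extZero j _ ?_ _
      have hmem : (ζ ≫ X.fromSpecResidueField y) default = y := by
        rw [Scheme.Hom.comp_apply]
        exact Scheme.fromSpecResidueField_apply y _
      rw [hmem]
      exact hyV
    haveI : (EtCoh.push (X.fromSpecResidueField y)).Additive :=
      (EtCoh.pullPushAdj (X.fromSpecResidueField y)).right_adjoint_additive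
    exact CdpLib.subsingleton_H_of_isZero ((EtCoh.push (X.fromSpecResidueField y)).map_isZero hz) m

include f in
/-- Affine curves over algebraically closed fields have cohomological dimension at most one. -/
theorem cohDimLE_one (hdim : topologicalKrullDim X ≤ 1) : EtCoh.CohDimLE X 1 := by
  haveI : IsLocallyNoetherian X := LocallyOfFiniteType.isLocallyNoetherian f
  haveI : IsNoetherian X := {}
  refine cohDimLE_of_primes fun ℓ hℓ => ?_
  haveI : Fact ℓ.Prime := ⟨hℓ⟩
  by_cases h : (ℓ : k) = 0
  · have h0 : (ℓ : Γ(X, ⊤)) = 0 := by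
      rw [← map_natCast ((Scheme.ΓSpecIso (CommRingCat.of k)).inv ≫ f.appTop).hom ℓ, h, map_zero]
    exact CdpLib.cohDimLEAt ℓ h0 (KPi1Lib.qcVanish_affine X)
  · refine CdpLib.cohDimLEAt_of_constVanish ℓ fun q hq T V π _ j _ _ => ?_
    haveI : IsAffine T := isAffine_of_isAffineHom π
    haveI : LocallyOfFiniteType (π ≫ f) := inferInstance
    exact subsingleton_H_extZero (π ≫ f) ((DimLiftLib.le_of_isIntegralHom π).trans hdim) j hℓ.one_lt.le h q (by omega)

end Groth.Agent.AffCurveLib
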